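import Cfsg.Agent.EqLemmas
import Mathlib.GroupTheory.Perm.Cycle.Basic

/-!
# Odd groups of automorphisms of a group of order 4 or 8 (owner: helper64)

* `eq_one_of_fix_two`  : an odd automorphism fixing two independent elements is trivial
* `exists_transitive`  : without common fixed point some member is transitive by its powers
* `mem_zpowers_of_transitive` : all transitive members generate the same subgroup
-/

set_option autoImplicit false
set_option linter.unusedSectionVars false
set_option linter.style.haveILetI false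

namespace Cfsg.Agent.Goldschmidt.General.SmallCycle

open Subgroup

variable {V : Type*} [Group V] [Finite V]

/-- The powers of `σ` are transitive on the non-trivial elements. -/
def Trans (σ : MulAut V) : Prop :=
  ∀ x y : V, x ≠ 1 → y ≠ 1 → ∃ k : ℕ, (σ ^ k) x = y

theorem finite_mulAut : Finite (MulAut V) :=
  Finite.of_injective (fun f : MulAut V => (f : V → V)) DFunLike.coe_injective

theorem odd_orderOf {I : Subgroup (MulAut V)} (hI : Odd (Nat.card ↥I)) {σ : MulAut V} (hσ : σ ∈ I) :
    Odd (orderOf σ) := by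
  haveI := finite_mulAut (V := V)
  exact hI.of_dvd_nat (Subgroup.orderOf_dvd_natCard I hσ)

/-- An automorphism of odd order fixing two independent elements of a group of order at most eight. -/
theorem eq_one_of_fix_two (hV : ∀ v : V, v * v = 1) (hq : Nat.card V = 4 ∨ Nat.card V = 8)
    {σ : MulAut V} (hodd : Odd (orderOf σ)) {x y : V} (hx : x ≠ 1) (hy : y ≠ 1) (hxy : x ≠ y)
    (hfx : σ x = x) (hfy : σ y = y) : σ = 1 := by
  classical
  let F : Subgroup V := MonoidHom.eqLocus σ.toMonoidHom (MonoidHom.id V)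
  have hmem : ∀ v, v ∈ F ↔ σ v = v := fun v => Iff.rfl
  by_cases hF : F = ⊤
  · exact MulEquiv.ext fun v => (hmem v).1 (hF ▸ mem_top v)
  have hxF : x ∈ F := hfx
  have hyF : y ∈ F := hfy
  -- four elements are fixed
  have h3 : 3 ≤ Nat.card ↥F := by
    haveI : Fintype ↥F := Fintype.ofFinite _
    have h : ({⟨1, F.one_mem⟩, ⟨x, hxF⟩, ⟨y, hyF⟩} : Finset ↥F).card = 3 :=
      Finset.card_eq_three.2 ⟨_, _, _, fun e => hx (congrArg Subtype.val e).symm,
        fun e => hy (congrArg Subtype.val e).symm, fun e => hxy (congrArg Subtype.val e), rfl⟩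
    rw [Nat.card_eq_fintype_card, ← h]
    exact Finset.card_le_univ _
  have hmul := F.card_mul_index
  have hi1 : F.index ≠ 1 := fun e => hF (index_eq_one.1 e)
  have hi : F.index = 2 := by
    have hd : Nat.card ↥F ∣ Nat.card V := ⟨_, hmul.symm⟩
    rcases hq with hq | hq
    · rw [hq] at hd hmul
      have : Nat.card ↥F ≤ 4 := Nat.le_of_dvd (by norm_num) hd
      interval_cases h : Nat.card ↥F <;> omega
    · rw [hq] at hd hmul
      have : Nat.card ↥F ≤ 8 := Nat.le_of_dvd (by norm_num) hd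
      interval_cases h : Nat.card ↥F <;> omega
  -- so `σ` squares to one
  have hsq : σ ^ 2 = 1 := by
    refine MulEquiv.ext fun z => ?_
    rw [pow_two, MulAut.mul_apply, MulAut.one_apply]
    by_cases hz : z ∈ F
    · rw [(hmem z).1 hz, (hmem z).1 hz]
    have hz' : σ z ∉ F := fun h => hz ((hmem z).2 (σ.injective ((hmem _).1 h)))
    have hd : z * σ z ∈ F := (mul_mem_iff_of_index_two hi).2 ⟨fun h => absurd h hz, fun h => absurd h hz'⟩
    have hd' := (hmem _).1 hd
    rw [map_mul] at hd'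
    have hc : ∀ a b : V, a * b = b * a := fun a b => by
      calc a * b = (a * b)⁻¹ := eq_inv_of_mul_eq_one_left (hV _)
        _ = b⁻¹ * a⁻¹ := mul_inv_rev a b
        _ = b * a := by rw [inv_eq_of_mul_eq_one_right (hV a), inv_eq_of_mul_eq_one_right (hV b)]
    rw [hc z (σ z)] at hd'
    exact mul_left_cancel hd'
  have h1 : orderOf σ ∣ 2 := orderOf_dvd_of_pow_eq_one hsq
  rcases (Nat.dvd_prime Nat.prime_two).1 h1 with h | h
  · exact orderOf_eq_one_iff.1 h
  · rw [h] at hodd; exact absurd hodd (by decide)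

theorem pow_period {σ : MulAut V} {x : V} {m : ℕ} (h : (σ ^ m) x = x) (k : ℕ) :
    (σ ^ (m * k)) x = x := by
  induction k with
  | zero => simp
  | succ k ih => rw [Nat.mul_succ, pow_add, MulAut.mul_apply, h, ih]

/-- A transitive automorphism has order `|V| - 1`. -/
theorem orderOf_of_trans (hq : Nat.card V = 4 ∨ Nat.card V = 8) {σ : MulAut V} (hσ : Trans σ) :
    orderOf σ = Nat.card V - 1 := by
  classical
  haveI := finite_mulAut (V := V)
  have hr : (Nat.card V - 1).Prime := by rcases hq with h | h <;> rw [h] <;> norm_num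
  obtain ⟨x, hx⟩ : ∃ x : V, x ≠ 1 := by
    by_contra! h
    haveI : Subsingleton V := ⟨fun a b => by rw [h a, h b]⟩
    rw [Nat.card_of_subsingleton (1 : V)] at hq
    omega
  -- the orbit of `x` has all non-trivial elements
  have hb : Function.Bijective (fun p : ↥(MulAction.orbit (zpowers σ) x) =>
      (⟨p.1, by
        obtain ⟨⟨g, hg⟩, e⟩ := p.2
        rw [← e]
        exact fun h => hx (g.injective (h.trans (map_one g).symm))⟩ : {v : V // v ≠ 1})) := by
    refine ⟨fun a b h => Subtype.ext (congrArg (fun v : {v : V // v ≠ 1} => v.1) h), fun v => ?_⟩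
    obtain ⟨k, hk⟩ := hσ x v.1 hx v.2
    exact ⟨⟨v.1, ⟨⟨σ ^ k, pow_mem (mem_zpowers σ) k⟩, hk⟩⟩, rfl⟩
  have hcard : Function.minimalPeriod (σ • ·) x = Nat.card V - 1 := by
    have h1 : Nat.card ↥(MulAction.orbit (zpowers σ) x) = Nat.card {v : V // v ≠ 1} :=
      Nat.card_congr (Equiv.ofBijective _ hb)
    haveI : Fintype ↥(MulAction.orbit (zpowers σ) x) := Fintype.ofFinite _
    haveI : Fintype V := Fintype.ofFinite V
    rw [MulAction.minimalPeriod_eq_card, ← Nat.card_eq_fintype_card, h1, Nat.card_eq_fintype_card,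
      Nat.card_eq_fintype_card, Fintype.card_subtype_compl, Fintype.card_subtype_eq]
  have hfix : (σ ^ (Nat.card V - 1)) x = x := by
    have h := Function.iterate_minimalPeriod (f := (σ • ·)) (x := x)
    rw [hcard, smul_iterate_apply] at h
    exact h
  have hpow : σ ^ (Nat.card V - 1) = 1 := by
    refine MulEquiv.ext fun v => ?_
    rw [MulAut.one_apply]
    by_cases hv : v = 1
    · rw [hv, map_one]
    obtain ⟨k, rfl⟩ := hσ x v hx hv
    rw [← MulAut.mul_apply, ← pow_add, add_comm, pow_add, MulAut.mul_apply, hfix]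
  refine ((Nat.dvd_prime hr).1 (orderOf_dvd_of_pow_eq_one hpow)).resolve_left fun h => ?_
  rw [orderOf_eq_one_iff] at h
  obtain ⟨y, hy, hyx⟩ : ∃ y : V, y ≠ 1 ∧ y ≠ x := by
    by_contra! hall
    have : Nat.card V ≤ Nat.card (Fin 2) := Nat.card_le_card_of_surjective (![1, x]) fun v => by
      by_cases hv : v = 1
      · exact ⟨0, hv.symm⟩
      · exact ⟨1, (hall v hv).symm⟩
    rw [Nat.card_fin] at this
    omega
  obtain ⟨k, hk⟩ := hσ x y hx hy
  rw [h, one_pow, MulAut.one_apply] at hk
  exact hyx hk.symm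

/-- An element of prime order `|V| - 1` is transitive. -/
theorem trans_of_orderOf (hq : Nat.card V = 4 ∨ Nat.card V = 8)
    {σ : MulAut V} (hσ : orderOf σ = Nat.card V - 1) : Trans σ := by
  classical
  haveI := finite_mulAut (V := V)
  have hr : (Nat.card V - 1).Prime := by rcases hq with h | h <;> rw [h] <;> norm_num
  -- the fixed subgroup is trivial
  let F : Subgroup V := MonoidHom.eqLocus σ.toMonoidHom (MonoidHom.id V)
  have hne : σ ≠ 1 := fun e => by
    rw [e, orderOf_one] at hσ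
    exact hr.ne_one hσ.symm
  have hper : ∀ x : V, σ x ≠ x → Function.minimalPeriod (σ • ·) x = Nat.card V - 1 := by
    intro x hx
    have h : Function.IsPeriodicPt (σ • ·) (Nat.card V - 1) x := by
      show (σ • ·)^[Nat.card V - 1] x = x
      rw [smul_iterate_apply, ← hσ, pow_orderOf_eq_one, one_smul]
    refine ((Nat.dvd_prime hr).1 h.minimalPeriod_dvd).resolve_left fun h1 => hx ?_
    exact Function.minimalPeriod_eq_one_iff_isFixedPt.1 h1
  have horbit : ∀ x : V, σ x ≠ x → ∀ y : V, y ≠ 1 → ∃ k : ℕ, (σ ^ k) x = y := by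
    intro x hx y hy
    have hx1 : x ≠ 1 := fun e => hx (by rw [e, map_one])
    let f : Fin (Nat.card V - 1) → {v : V // v ≠ 1} := fun k =>
      ⟨(σ ^ (k : ℕ)) x, fun e => hx1 ((σ ^ (k : ℕ)).injective (e.trans (map_one _).symm))⟩
    have hf : Function.Injective f := by
      intro a b hab
      have h1 : (σ • ·)^[(a : ℕ)] x = (σ • ·)^[(b : ℕ)] x := by
        rw [smul_iterate_apply, smul_iterate_apply]
        exact congrArg (fun v : {v : V // v ≠ 1} => v.1) hab
      exact Fin.ext (Function.iterate_injOn_Iio_minimalPeriod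
        (Set.mem_Iio.2 ((hper x hx).symm ▸ a.2)) (Set.mem_Iio.2 ((hper x hx).symm ▸ b.2)) h1)
    haveI : Fintype V := Fintype.ofFinite V
    have hcard : Fintype.card (Fin (Nat.card V - 1)) = Fintype.card {v : V // v ≠ 1} := by
      rw [Fintype.card_fin, Nat.card_eq_fintype_card, Fintype.card_subtype_compl, Fintype.card_subtype_eq]
    obtain ⟨k, hk⟩ := ((Fintype.bijective_iff_injective_and_card f).2 ⟨hf, hcard⟩).surjective ⟨y, hy⟩
    exact ⟨k, congrArg (fun v : {v : V // v ≠ 1} => v.1) hk⟩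
  obtain ⟨w, hw⟩ : ∃ w : V, σ w ≠ w := by
    by_contra! h
    exact hne (MulEquiv.ext h)
  intro x y hx hy
  refine horbit x (fun hfx => ?_) y hy
  obtain ⟨k, hk⟩ := horbit w hw x hx
  refine hw ((σ ^ k).injective ?_)
  rw [← MulAut.mul_apply, ← pow_succ, pow_succ', MulAut.mul_apply, hk, hfx]

/-- Fewer than `(|V| - 1)²` members. -/
theorem card_lt (hV : ∀ v : V, v * v = 1) (hq : Nat.card V = 4 ∨ Nat.card V = 8)
    {I : Subgroup (MulAut V)} (hI : Odd (Nat.card ↥I)) :
    Nat.card ↥I < (Nat.card V - 1) * (Nat.card V - 1) := by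
  classical
  haveI := finite_mulAut (V := V)
  haveI : Fintype V := Fintype.ofFinite V
  obtain ⟨x, y, hx, hy, hxy⟩ : ∃ x y : V, x ≠ 1 ∧ y ≠ 1 ∧ x ≠ y := by
    have h1 : 1 < Fintype.card {v : V // v ≠ 1} := by
      rw [Fintype.card_subtype_compl, Fintype.card_subtype_eq, ← Nat.card_eq_fintype_card]
      omega
    obtain ⟨a, b, hab⟩ := Fintype.exists_pair_of_one_lt_card h1
    exact ⟨a.1, b.1, a.2, b.2, fun e => hab (Subtype.ext e)⟩
  let P := {v : V // v ≠ 1} × {v : V // v ≠ 1}
  let f : ↥I → {p : P // p.1 ≠ p.2} := fun σ =>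
    ⟨(⟨σ.1 x, fun e => hx (σ.1.injective (e.trans (map_one _).symm))⟩,
      ⟨σ.1 y, fun e => hy (σ.1.injective (e.trans (map_one _).symm))⟩),
      fun e => hxy (σ.1.injective (congrArg (fun v : {v : V // v ≠ 1} => v.1) e))⟩
  have hf : Function.Injective f := by
    intro a b h
    have h1 := congrArg (fun p : {p : P // p.1 ≠ p.2} => (p.1.1.1, p.1.2.1)) h
    simp only [f, Prod.mk.injEq] at h1
    have h2 : a.1⁻¹ * b.1 = 1 := by
      refine eq_one_of_fix_two hV hq (odd_orderOf hI (mul_mem (inv_mem a.2) b.2)) hx hy hxy ?_ ?_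
      · rw [MulAut.mul_apply, ← h1.1, MulAut.inv_apply_self]
      · rw [MulAut.mul_apply, ← h1.2, MulAut.inv_apply_self]
    exact Subtype.ext (inv_mul_eq_one.1 h2)
  have hlt : Nat.card {p : P // p.1 ≠ p.2} < Nat.card P := by
    rw [Nat.card_eq_fintype_card, Nat.card_eq_fintype_card]
    exact Fintype.card_subtype_lt (x := (⟨x, hx⟩, ⟨x, hx⟩)) (by simp)
  refine lt_of_le_of_lt (Nat.card_le_card_of_injective f hf) (hlt.trans_le (le_of_eq ?_))
  rw [Nat.card_prod, Nat.card_eq_fintype_card (α := {v : V // v ≠ 1}), Fintype.card_subtype_compl,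
    Fintype.card_subtype_eq, ← Nat.card_eq_fintype_card]

/-- Transitive members are powers of one another. -/
theorem exists_pow_of_trans (hV : ∀ v : V, v * v = 1) (hq : Nat.card V = 4 ∨ Nat.card V = 8)
    {I : Subgroup (MulAut V)} (hI : Odd (Nat.card ↥I)) {σ τ : MulAut V} (hσ : σ ∈ I) (hτ : τ ∈ I)
    (hσt : Trans σ) (hτt : Trans τ) : ∃ k : ℕ, τ = σ ^ k := by
  classical
  haveI := finite_mulAut (V := V)
  suffices τ ∈ zpowers σ by
    obtain ⟨k, hk⟩ := ((isOfFinOrder_of_finite σ).mem_powers_iff_mem_zpowers.2 this)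
    exact ⟨k, hk.symm⟩
  by_contra hn
  have hr : (Nat.card V - 1).Prime := by rcases hq with h | h <;> rw [h] <;> norm_num
  have hcσ : Nat.card ↥(zpowers σ) = Nat.card V - 1 := by rw [Nat.card_zpowers, orderOf_of_trans hq hσt]
  have hcτ : Nat.card ↥(zpowers τ) = Nat.card V - 1 := by rw [Nat.card_zpowers, orderOf_of_trans hq hτt]
  haveI : Fact (Nat.card V - 1).Prime := ⟨hr⟩
  have hd : zpowers σ ⊓ zpowers τ = ⊥ := by
    have hdv := card_dvd_of_le (inf_le_right : zpowers σ ⊓ zpowers τ ≤ zpowers τ)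
    rw [hcτ] at hdv
    rcases (Nat.dvd_prime hr).1 hdv with h | h
    · exact card_eq_one.1 h
    · have e : zpowers σ ⊓ zpowers τ = zpowers τ :=
        eq_of_le_of_card_ge inf_le_right (by rw [h, hcτ])
      exact absurd ((e.ge (mem_zpowers τ)).1) hn
  let f : ↥(zpowers σ) × ↥(zpowers τ) → ↥I := fun p =>
    ⟨p.1 * p.2, mul_mem (zpowers_le.2 hσ p.1.2) (zpowers_le.2 hτ p.2.2)⟩
  have hf : Function.Injective f := fun p q h =>
    mul_injective_of_disjoint (disjoint_iff.2 hd) (congrArg Subtype.val h)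
  have := Nat.card_le_card_of_injective f hf
  rw [Nat.card_prod, hcσ, hcτ] at this
  exact absurd (card_lt hV hq hI) (not_lt.2 this)

/-- Without common fixed point some member is transitive. -/
theorem exists_trans (hV : ∀ v : V, v * v = 1) (hq : Nat.card V = 4 ∨ Nat.card V = 8)
    {I : Subgroup (MulAut V)} (hI : Odd (Nat.card ↥I))
    (hfix : ∀ x : V, (∀ σ ∈ I, σ x = x) → x = 1) : ∃ σ ∈ I, Trans σ := by
  classical
  haveI := finite_mulAut (V := V)
  suffices hdvd : Nat.card V - 1 ∣ Nat.card ↥I by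
    haveI : Fact (Nat.card V - 1).Prime := ⟨by rcases hq with h | h <;> rw [h] <;> norm_num⟩
    obtain ⟨σ, hσ⟩ := exists_prime_orderOf_dvd_card' (Nat.card V - 1) hdvd
    exact ⟨σ.1, σ.2, trans_of_orderOf hq (by rw [orderOf_coe, hσ])⟩
  haveI : Fintype V := Fintype.ofFinite V
  set O : V → Finset V := fun x => (MulAction.orbit ↥I x).toFinset
  have hO1 : ∀ x, x ≠ 1 → (1 : V) ∉ O x := by
    intro x hx h
    obtain ⟨g, hg⟩ := Set.mem_toFinset.1 h
    exact hx (g.1.injective (hg.trans (map_one _).symm))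
  have hOdvd : ∀ x, (O x).card ∣ Nat.card ↥I := fun x => by
    rw [Set.toFinset_card, ← Nat.card_eq_fintype_card]
    exact ⟨Nat.card ↥(MulAction.stabilizer ↥I x), by
      rw [← Nat.card_congr (MulAction.orbitProdStabilizerEquivGroup ↥I x), Nat.card_prod]⟩
  have hself : ∀ x, x ∈ O x := fun x => Set.mem_toFinset.2 (MulAction.mem_orbit_self x)
  have hthree : ∀ x, x ≠ 1 → 3 ≤ (O x).card := by
    intro x hx
    have hodd : Odd (O x).card := hI.of_dvd_nat (hOdvd x)
    have h1 : (O x).card ≠ 1 := fun e => hx (hfix x fun σ hσ => by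
      obtain ⟨a, ha⟩ := Finset.card_eq_one.1 e
      have h2 : σ x ∈ O x := Set.mem_toFinset.2 ⟨⟨σ, hσ⟩, rfl⟩
      have h3 := hself x
      rw [ha, Finset.mem_singleton] at h2 h3
      rw [h2, ← h3])
    obtain ⟨m, hm⟩ := hodd
    omega
  have hsame : ∀ x y, y ∈ O x → O y = O x := fun x y h => by
    have e := MulAction.orbit_eq_iff.2 (Set.mem_toFinset.1 h)
    exact Finset.ext fun w => by simp only [O, Set.mem_toFinset, e]
  set U : Finset V := Finset.univ.erase 1 with hU
  have hUc : U.card = Nat.card V - 1 := by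
    rw [hU, Finset.card_erase_of_mem (Finset.mem_univ _), Finset.card_univ, Nat.card_eq_fintype_card]
  have hsub : ∀ x, x ≠ 1 → O x ⊆ U := fun x hx y hy =>
    Finset.mem_erase.2 ⟨fun e => hO1 x hx (e ▸ hy), Finset.mem_univ _⟩
  obtain ⟨x, hx⟩ : U.Nonempty := Finset.card_pos.1 (by rw [hUc]; omega)
  have hx1 := (Finset.mem_erase.1 hx).1
  by_cases hall : O x = U
  · rw [← hUc, ← hall]
    exact hOdvd x
  exfalso
  obtain ⟨y, hy, hyx⟩ : ∃ y ∈ U, y ∉ O x := by
    by_contra! h
    exact hall (Finset.Subset.antisymm (hsub x hx1) h)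
  have hy1 := (Finset.mem_erase.1 hy).1
  have hdis : Disjoint (O x) (O y) := Finset.disjoint_left.2 fun z hzx hzy =>
    hyx (by rw [← hsame x z hzx, hsame y z hzy]; exact hself y)
  have hu : O x ∪ O y ⊆ U := Finset.union_subset (hsub x hx1) (hsub y hy1)
  have hc := Finset.card_le_card hu
  rw [Finset.card_union_of_disjoint hdis, hUc] at hc
  have h3x := hthree x hx1
  have h3y := hthree y hy1
  have hox : Odd (O x).card := hI.of_dvd_nat (hOdvd x)
  have hoy : Odd (O y).card := hI.of_dvd_nat (hOdvd y)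
  -- one element is left over
  have hleft : (U \ (O x ∪ O y)).card = 1 := by
    rw [Finset.card_sdiff_of_subset hu, Finset.card_union_of_disjoint hdis, hUc]
    obtain ⟨a, ha⟩ := hox
    obtain ⟨b, hb⟩ := hoy
    rcases hq with h | h <;> omega
  obtain ⟨z, hz⟩ := Finset.card_eq_one.1 hleft
  have hzm : z ∈ U \ (O x ∪ O y) := hz ▸ Finset.mem_singleton_self z
  rw [Finset.mem_sdiff, Finset.mem_union, not_or] at hzm
  have hz1 := (Finset.mem_erase.1 hzm.1).1
  have hOz : O z ⊆ U \ (O x ∪ O y) := fun w hw => by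
    refine Finset.mem_sdiff.2 ⟨hsub z hz1 hw, ?_⟩
    rw [Finset.mem_union, not_or]
    exact ⟨fun h => hzm.2.1 (by rw [← hsame x w h, hsame z w hw]; exact hself z),
      fun h => hzm.2.2 (by rw [← hsame y w h, hsame z w hw]; exact hself z)⟩
  have := (hthree z hz1).trans (Finset.card_le_card hOz)
  omega

end Cfsg.Agent.Goldschmidt.General.SmallCycle
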